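import Groth.Agent.Lib.BCQVcomp.Abstract

/-!
# Pasting of base change morphisms between right derived functors
-/

set_option autoImplicit false
set_option backward.isDefEq.respectTransparency false
set_option backward.isDefEq.respectTransparency.types false

universe v u

open CategoryTheory CategoryTheory.Limits HomologicalComplex

noncomputable section

namespace GrothLib.BCQVcomp

section One

variable {T S Y X : Type u} [Category.{v} T] [Abelian T] [Category.{v} S] [Abelian S] [Category.{v} Y] [Abelian Y]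
  [Category.{v} X] [Abelian X] [HasInjectiveResolutions T] [HasInjectiveResolutions Y]
  {G : T ⥤ S} {P : Y ⥤ T} {H : Y ⥤ X} {Fr : X ⥤ S}
  [G.Additive] [P.Additive] [H.Additive] [Fr.Additive]
  [P.PreservesInjectiveObjects] [PreservesFiniteLimits Fr]
  {Lp : T ⥤ Y} {Lf : S ⥤ X} (adjP : Lp ⊣ P) (adjF : Lf ⊣ Fr) (σ : P ⋙ G ≅ H ⋙ Fr) (q : ℕ) (F : T)

/-- A lift of the unit to injective resolutions. -/
def liftUnit : (injectiveResolution F).cocomplex ⟶
    (P.mapHomologicalComplex _).obj (injectiveResolution (Lp.obj F)).cocomplex :=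
  InjectiveResolution.desc (adjP.unit.app F)
    (injectiveResolution (P.obj (Lp.obj F))) (injectiveResolution F) ≫
  RDer.descToInjectives (𝟙 _)
    (injectiveResolution (P.obj (Lp.obj F))).cocomplex
    (injectiveResolution (P.obj (Lp.obj F))).ι
    _ (RDer.mapAug P (injectiveResolution (Lp.obj F)).ι)

theorem liftUnit_zero :
    (injectiveResolution F).ι.f 0 ≫ (liftUnit adjP F).f 0 =
      adjP.unit.app F ≫ P.map ((injectiveResolution (Lp.obj F)).ι.f 0) := by
  rw [liftUnit, HomologicalComplex.comp_f, ← Category.assoc, InjectiveResolution.desc_commutes_zero,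
    Category.assoc]
  erw [RDer.ι_descToInjectives_f_zero]
  simp [HomologicalComplex.singleMapHomologicalComplex_inv_app_self]

/-- The base change morphism in degree `q`, transposed form. -/
def bcQAdjGen : (G.rightDerived q).obj F ⟶ Fr.obj ((H.rightDerived q).obj (Lp.obj F)) :=
  (G.rightDerived q).map (adjP.unit.app F) ≫
    RDer.edgeIn P G q (Lp.obj F) ≫
    (RDer.rightDerivedIso σ q).hom.app (Lp.obj F) ≫
    RDer.edgeOut H Fr q (Lp.obj F)

/-- The base change morphism in degree `q`. -/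
def bcQGen : Lf.obj ((G.rightDerived q).obj F) ⟶ (H.rightDerived q).obj (Lp.obj F) :=
  (adjF.homEquiv _ _).symm (bcQAdjGen adjP σ q F)

/-- The map of complexes underlying the base change morphism. -/
abbrev bcCx := sqCx σ (liftUnit adjP F)

theorem bcQGen_eq :
    bcQGen adjP adjF σ q F =
      Lf.map ((injectiveResolution F).isoRightDerivedObj G q).hom ≫
      transHom adjF (bcCx adjP σ F) q ≫
      ((injectiveResolution (Lp.obj F)).isoRightDerivedObj H q).inv := by
  have key : bcQAdjGen adjP σ q F =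
      ((injectiveResolution F).isoRightDerivedObj G q).hom ≫
      (HomologicalComplex.homologyMap (bcCx adjP σ F) q ≫ RDer.homologyComparison Fr _ q) ≫
      Fr.map ((injectiveResolution (Lp.obj F)).isoRightDerivedObj H q).inv := by
    rw [bcCx, sqCx, liftUnit, Functor.map_comp, HomologicalComplex.homologyMap_comp,
      HomologicalComplex.homologyMap_comp]
    dsimp only [bcQAdjGen, RDer.edgeIn, RDer.edgeOut, RDer.rightDerivedIso]
    rw [Functor.rightDerived_map_eq G q (adjP.unit.app F)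
      (InjectiveResolution.desc (adjP.unit.app F)
        (injectiveResolution (P.obj (Lp.obj F))) (injectiveResolution F))
      (InjectiveResolution.desc_commutes _ _ _),
      InjectiveResolution.rightDerived_app_eq σ.hom (injectiveResolution (Lp.obj F)) q]
    simp only [Category.assoc, Iso.inv_hom_id_assoc]
    rfl
  rw [bcQGen, key, Adjunction.homEquiv_naturality_left_symm, Adjunction.homEquiv_naturality_right_symm]
  rfl

theorem isIso_bcQGen_iff :
    IsIso (bcQGen adjP adjF σ q F) ↔ IsIso (transHom adjF (bcCx adjP σ F) q) := by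
  rw [bcQGen_eq, isIso_comp_left_iff, isIso_comp_right_iff]

end One

section Tower

variable {T S Y X Z W : Type u} [Category.{v} T] [Abelian T] [Category.{v} S] [Abelian S] [Category.{v} Y]
  [Abelian Y] [Category.{v} X] [Abelian X] [Category.{v} Z] [Abelian Z] [Category.{v} W] [Abelian W]
  [HasInjectiveResolutions T] [HasInjectiveResolutions Y] [HasInjectiveResolutions Z]
  {G : T ⥤ S} {P : Y ⥤ T} {H : Y ⥤ X} {Fr : X ⥤ S} {K : Z ⥤ Y} {Jf : Z ⥤ W} {If : W ⥤ X}
  {R : Z ⥤ T} {Fi : W ⥤ S}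
  [G.Additive] [P.Additive] [H.Additive] [Fr.Additive] [K.Additive] [Jf.Additive] [If.Additive]
  [R.Additive] [Fi.Additive]
  [P.PreservesInjectiveObjects] [K.PreservesInjectiveObjects] [R.PreservesInjectiveObjects]
  [PreservesFiniteLimits Fr] [PreservesFiniteLimits If] [PreservesFiniteLimits Fi]
  {Lp : T ⥤ Y} {Lf : S ⥤ X} {Lk : Y ⥤ Z} {Li : X ⥤ W} {Lr : T ⥤ Z} {Lfi : S ⥤ W}
  (adjP : Lp ⊣ P) (adjF : Lf ⊣ Fr) (adjK : Lk ⊣ K) (adjI : Li ⊣ If) (adjR : Lr ⊣ R) (adjFi : Lfi ⊣ Fi)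
  (σ₁ : P ⋙ G ≅ H ⋙ Fr) (σ₂ : K ⋙ H ≅ Jf ⋙ If) (σ₃ : R ⋙ G ≅ Jf ⋙ Fi)
  (γP : K ⋙ P ≅ R) (γF : If ⋙ Fr ≅ Fi)
  (hcoh : ∀ M : Z, G.map (γP.hom.app M) ≫ σ₃.hom.app M =
    σ₁.hom.app (K.obj M) ≫ Fr.map (σ₂.hom.app M) ≫ γF.hom.app (Jf.obj M))

include hcoh in
theorem vcompGen_iff (F : T) (q : ℕ) (h2 : IsIso (bcQGen adjK adjI σ₂ q (Lp.obj F))) :
    IsIso (bcQGen adjR adjFi σ₃ q F) ↔ IsIso (Li.map (bcQGen adjP adjF σ₁ q F)) := by
  rw [isIso_bcQGen_iff] at h2 ⊢
  rw [bcQGen_eq, Functor.map_comp, Functor.map_comp, isIso_comp_left_iff, isIso_comp_right_iff]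
  let I := injectiveResolution F
  let L := injectiveResolution (Lk.obj (Lp.obj F))
  let L₃ := injectiveResolution (Lr.obj F)
  let u₁ := liftUnit adjP F
  let u₂ := liftUnit adjK (Lp.obj F)
  let u₃ := liftUnit adjR F
  let adjEK := (adjP.comp adjK).ofNatIsoRight γP
  let φ := (Adjunction.leftAdjointUniq adjR adjEK).app F
  let ψ : L₃.cocomplex ⟶ L.cocomplex := InjectiveResolution.desc φ.hom L L₃
  let γ := (NatTrans.mapHomologicalComplex γP.hom (ComplexShape.up ℕ)).app L.cocomplex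
  let a : I.cocomplex ⟶ (R.mapHomologicalComplex _).obj L.cocomplex :=
    u₃ ≫ (R.mapHomologicalComplex _).map ψ
  let b : I.cocomplex ⟶ (R.mapHomologicalComplex _).obj L.cocomplex :=
    u₁ ≫ (P.mapHomologicalComplex _).map u₂ ≫ γ
  have hab : I.ι.f 0 ≫ a.f 0 = I.ι.f 0 ≫ b.f 0 := by
    show I.ι.f 0 ≫ u₃.f 0 ≫ R.map (ψ.f 0) =
      I.ι.f 0 ≫ u₁.f 0 ≫ P.map (u₂.f 0) ≫ γP.hom.app (L.cocomplex.X 0)
    rw [reassoc_of% liftUnit_zero adjR F, reassoc_of% liftUnit_zero adjP F, ← Functor.map_comp,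
      InjectiveResolution.desc_commutes_zero, Functor.map_comp, ← Functor.map_comp_assoc,
      liftUnit_zero adjK, Functor.map_comp, Category.assoc]
    erw [γP.hom.naturality (L.ι.f 0)]
    rw [← Category.assoc, show adjR.unit.app F ≫ R.map φ.hom = adjEK.unit.app F from
      Adjunction.unit_leftAdjointUniq_hom_app adjR adjEK F]
    simp [adjEK, Adjunction.ofNatIsoRight, Adjunction.comp]
  haveI : ∀ n, Injective (((R.mapHomologicalComplex _).obj L.cocomplex).X n) := fun n => R.injective_obj _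
  obtain ⟨Hh⟩ := nonempty_homotopy I _ a b hab
  let Φ₁ := bcCx adjP σ₁ F
  let Φ₂ := bcCx adjK σ₂ (Lp.obj F)
  let Φ₃ := bcCx adjR σ₃ F
  let jψ := (Jf.mapHomologicalComplex (ComplexShape.up ℕ)).map ψ
  let K' := (Jf.mapHomologicalComplex (ComplexShape.up ℕ)).obj L.cocomplex
  haveI : PreservesFiniteLimits (If ⋙ Fr) := comp_preservesFiniteLimits _ _
  let Φ₁₂ : (G.mapHomologicalComplex (ComplexShape.up ℕ)).obj I.cocomplex ⟶
      ((If ⋙ Fr).mapHomologicalComplex (ComplexShape.up ℕ)).obj K' :=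
    Φ₁ ≫ (Fr.mapHomologicalComplex _).map Φ₂
  have heq : (G.mapHomologicalComplex _).map b ≫
      (NatTrans.mapHomologicalComplex σ₃.hom _).app L.cocomplex =
      Φ₁₂ ≫ (NatTrans.mapHomologicalComplex γF.hom _).app K' := by
    ext n : 1
    show G.map (u₁.f n ≫ P.map (u₂.f n) ≫ γP.hom.app _) ≫ σ₃.hom.app _ =
      ((G.map (u₁.f n) ≫ σ₁.hom.app _) ≫ Fr.map (H.map (u₂.f n) ≫ σ₂.hom.app _)) ≫ γF.hom.app _
    simp only [Functor.map_comp, Category.assoc]
    rw [hcoh]
    exact congrArg (G.map (u₁.f n) ≫ ·) (σ₁.hom.naturality_assoc (u₂.f n) _)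
  have e3 : Φ₃ ≫ (Fi.mapHomologicalComplex _).map jψ =
      (G.mapHomologicalComplex _).map a ≫ (NatTrans.mapHomologicalComplex σ₃.hom _).app L.cocomplex := by
    ext n : 1
    show (G.map (u₃.f n) ≫ σ₃.hom.app _) ≫ Fi.map (Jf.map (ψ.f n)) =
      G.map (u₃.f n ≫ R.map (ψ.f n)) ≫ _
    rw [Functor.map_comp, Category.assoc, Category.assoc]
    exact congrArg _ (σ₃.hom.naturality (ψ.f n)).symm
  have key : transHom adjFi (Φ₁₂ ≫ (NatTrans.mapHomologicalComplex γF.hom _).app K') q =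
      transHom adjFi Φ₃ q ≫ homologyMap jψ q := by
    rw [← transHom_map, e3, ← heq]
    exact (transHom_congr _ _ q ((G.mapHomotopy Hh).compRight _)).symm
  rw [transHom_change (adjF.comp adjI), transHom_comp] at key
  have : IsIso (homologyMap jψ q) := isIso_homologyMap_desc L₃ L φ Jf q
  rw [← isIso_comp_right_iff (transHom adjFi Φ₃ q) (homologyMap jψ q), ← key, isIso_comp_left_iff]
  exact isIso_comp_right_iff _ _

include hcoh in
theorem vcompGen (F : T) (q : ℕ) (h1 : IsIso (bcQGen adjP adjF σ₁ q F))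
    (h2 : IsIso (bcQGen adjK adjI σ₂ q (Lp.obj F))) : IsIso (bcQGen adjR adjFi σ₃ q F) := by
  rw [vcompGen_iff adjP adjF adjK adjI adjR adjFi σ₁ σ₂ σ₃ γP γF hcoh F q h2]
  infer_instance

end Tower

end GrothLib.BCQVcomp
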