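import Groth.Prelude.Def_EtBC2
import Groth.Agent.Lib.BCQVcomp.Generic

/-!
# Pasting of base change morphisms for higher direct images of étale sheaves
-/

set_option autoImplicit false
set_option backward.isDefEq.respectTransparency false
set_option backward.isDefEq.respectTransparency.types false

universe u

open CategoryTheory CategoryTheory.Limits AlgebraicGeometry HomologicalComplex

noncomputable section

namespace GrothLib.BCQVcomp

variable {X S X' S' : Scheme.{u}}

/-- `f_* g'_* ≅ g_* f'_*`. -/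
abbrev sqIso (f : X ⟶ S) (g : S' ⟶ S) (f' : X' ⟶ S') (g' : X' ⟶ X) (w : g' ≫ f = f' ≫ g) :
    EtCoh.push g' ⋙ EtCoh.push f ≅ EtCoh.push f' ⋙ EtCoh.push g :=
  EtCoh.pushComp f g' ≪≫ EtCoh.pushCongr w ≪≫ (EtCoh.pushComp g f').symm

theorem bcQ_eq_gen (f : X ⟶ S) (g : S' ⟶ S) (f' : X' ⟶ S') (g' : X' ⟶ X) (w : g' ≫ f = f' ≫ g)
    [PreservesFiniteLimits (EtCoh.pull g')] (F : EtCoh.Ab X) (q : ℕ) :
    EtBC.bcQ f g f' g' w q F =
      bcQGen (EtCoh.pullPushAdj g') (EtCoh.pullPushAdj g) (sqIso f g f' g' w) q F := rfl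

section Components

open MorphismProperty

variable {A B C : Scheme.{u}} (p : A ⟶ B) (q : B ⟶ C) (r : A ⟶ C) (hr : r = p ≫ q) (U : C.Etale)

@[reassoc]
theorem comp_hom_fst_fst : ((Over.pullbackComp (P := EtCoh.etaleMP) (Q := ⊤) p q r hr).hom.app U).left ≫
    pullback.fst ((Over.pullback EtCoh.etaleMP ⊤ q).obj U).hom p ≫ pullback.fst U.hom q = pullback.fst U.hom r := by
  subst hr; simp
  exact pullbackLeftPullbackSndIso_inv_fst U.hom q p

@[reassoc]
theorem comp_hom_fst_snd : ((Over.pullbackComp (P := EtCoh.etaleMP) (Q := ⊤) p q r hr).hom.app U).left ≫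
    pullback.fst ((Over.pullback EtCoh.etaleMP ⊤ q).obj U).hom p ≫ pullback.snd U.hom q = pullback.snd U.hom r ≫ p := by
  subst hr; simp
  exact pullbackLeftPullbackSndIso_inv_fst_snd U.hom q p

@[reassoc]
theorem comp_hom_snd : ((Over.pullbackComp (P := EtCoh.etaleMP) (Q := ⊤) p q r hr).hom.app U).left ≫
    pullback.snd ((Over.pullback EtCoh.etaleMP ⊤ q).obj U).hom p = pullback.snd U.hom r := by
  subst hr; simp
  exact pullbackLeftPullbackSndIso_inv_snd_snd U.hom q p

@[reassoc]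
theorem comp_inv_fst : ((Over.pullbackComp (P := EtCoh.etaleMP) (Q := ⊤) p q r hr).inv.app U).left ≫
    pullback.fst U.hom r = pullback.fst ((Over.pullback EtCoh.etaleMP ⊤ q).obj U).hom p ≫ pullback.fst U.hom q := by
  subst hr; simp
  rfl

@[reassoc]
theorem comp_inv_snd : ((Over.pullbackComp (P := EtCoh.etaleMP) (Q := ⊤) p q r hr).inv.app U).left ≫
    pullback.snd U.hom r = pullback.snd ((Over.pullback EtCoh.etaleMP ⊤ q).obj U).hom p := by
  subst hr; simp
  rfl

variable {r' : A ⟶ C} (e : r = r')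

@[reassoc]
theorem congr_inv_fst : ((Over.pullbackCongr (P := EtCoh.etaleMP) (Q := ⊤) e).inv.app U).left ≫
    pullback.fst U.hom r = pullback.fst U.hom r' := by
  subst e; simp [Over.pullbackCongr]
  exact Category.id_comp _

@[reassoc]
theorem congr_inv_snd : ((Over.pullbackCongr (P := EtCoh.etaleMP) (Q := ⊤) e).inv.app U).left ≫
    pullback.snd U.hom r = pullback.snd U.hom r' := by
  subst e; simp [Over.pullbackCongr]
  exact Category.id_comp _

@[reassoc]
theorem map_fst {U' : B.Etale} {U : B.Etale} (a : U ⟶ U') :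
    ((Over.pullback EtCoh.etaleMP ⊤ p).map a).left ≫ pullback.fst U'.hom p = pullback.fst U.hom p ≫ a.left :=
  pullback.lift_fst _ _ _

@[reassoc]
theorem map_snd {U' : B.Etale} {U : B.Etale} (a : U ⟶ U') :
    ((Over.pullback EtCoh.etaleMP ⊤ p).map a).left ≫ pullback.snd U'.hom p = pullback.snd U.hom p :=
  pullback.lift_snd _ _ _

end Components

section Tower

variable {X S Y T W Z : Scheme.{u}} (f : X ⟶ S) (g : T ⟶ S) (h : Y ⟶ X) (e : Y ⟶ T)
  (w₁ : e ≫ g = h ≫ f) (i : W ⟶ X) (j : Z ⟶ W) (k : Z ⟶ Y) (w₂ : k ≫ h = j ≫ i)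
  (w₃ : (k ≫ e) ≫ g = j ≫ i ≫ f)

open MorphismProperty in
/-- The pasting coherence of base change functors between small étale sites. -/
theorem bc_vcomp (V : S.Etale) :
    ((Over.pullbackComp (P := EtCoh.etaleMP) (Q := ⊤) j (i ≫ f)).inv.app V).left ≫
        ((Over.pullbackCongr (P := EtCoh.etaleMP) (Q := ⊤) w₃).inv.app V).left ≫
      ((Over.pullbackComp (P := EtCoh.etaleMP) (Q := ⊤) (k ≫ e) g).hom.app V).left ≫
        ((Over.pullbackComp (P := EtCoh.etaleMP) (Q := ⊤) k e).hom.app ((EtCoh.bc g).obj V)).left =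
    ((EtCoh.bc j).map ((Over.pullbackComp (P := EtCoh.etaleMP) (Q := ⊤) i f).hom.app V)).left ≫
      ((Over.pullbackComp (P := EtCoh.etaleMP) (Q := ⊤) j i).inv.app ((EtCoh.bc f).obj V)).left ≫
      ((Over.pullbackCongr (P := EtCoh.etaleMP) (Q := ⊤) w₂).inv.app ((EtCoh.bc f).obj V)).left ≫
      ((Over.pullbackComp (P := EtCoh.etaleMP) (Q := ⊤) k h).hom.app ((EtCoh.bc f).obj V)).left ≫
      ((EtCoh.bc k).map ((Over.pullbackComp (P := EtCoh.etaleMP) (Q := ⊤) h f).inv.app V)).left ≫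
      ((EtCoh.bc k).map ((Over.pullbackCongr (P := EtCoh.etaleMP) (Q := ⊤) w₁).inv.app V)).left ≫
      ((EtCoh.bc k).map ((Over.pullbackComp (P := EtCoh.etaleMP) (Q := ⊤) e g).hom.app V)).left := by
  dsimp only [EtCoh.bc]
  apply pullback.hom_ext
  · apply pullback.hom_ext
    · apply pullback.hom_ext <;>
        simp only [Category.assoc, Functor.comp_obj, comp_hom_fst_fst, comp_hom_fst_fst_assoc, comp_hom_fst_snd,
          comp_hom_fst_snd_assoc, comp_hom_snd, comp_hom_snd_assoc, comp_inv_fst, comp_inv_fst_assoc,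
          comp_inv_snd, comp_inv_snd_assoc, congr_inv_fst, congr_inv_fst_assoc, congr_inv_snd,
          congr_inv_snd_assoc, map_fst, map_fst_assoc, map_snd, map_snd_assoc]
    · simp only [Category.assoc, Functor.comp_obj, comp_hom_fst_fst, comp_hom_fst_fst_assoc, comp_hom_fst_snd,
          comp_hom_fst_snd_assoc, comp_hom_snd, comp_hom_snd_assoc, comp_inv_fst, comp_inv_fst_assoc,
          comp_inv_snd, comp_inv_snd_assoc, congr_inv_fst, congr_inv_fst_assoc, congr_inv_snd,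
          congr_inv_snd_assoc, map_fst, map_fst_assoc, map_snd, map_snd_assoc]
  · simp only [Category.assoc, Functor.comp_obj, comp_hom_fst_fst, comp_hom_fst_fst_assoc, comp_hom_fst_snd,
          comp_hom_fst_snd_assoc, comp_hom_snd, comp_hom_snd_assoc, comp_inv_fst, comp_inv_fst_assoc,
          comp_inv_snd, comp_inv_snd_assoc, congr_inv_fst, congr_inv_fst_assoc, congr_inv_snd,
          congr_inv_snd_assoc, map_fst, map_fst_assoc, map_snd, map_snd_assoc]

/-- The composition isomorphisms of direct images are compatible with pasting of squares. -/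
theorem sqIso_vcomp (M : EtCoh.Ab Z) :
    (EtCoh.push g).map ((EtCoh.pushComp e k).hom.app M) ≫ (sqIso g (i ≫ f) j (k ≫ e) w₃).hom.app M =
      (sqIso g f h e w₁).hom.app ((EtCoh.push k).obj M) ≫
        (EtCoh.push f).map ((sqIso h i j k w₂).hom.app M) ≫
          (EtCoh.pushComp f i).hom.app ((EtCoh.push j).obj M) := by
  dsimp only [sqIso, EtCoh.pushComp, EtCoh.pushCongr]
  apply ObjectProperty.hom_ext
  apply NatTrans.ext
  funext V
  simp only [Iso.trans_hom, Iso.symm_hom, NatTrans.comp_app, ObjectProperty.FullSubcategory.comp_hom,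
    Functor.sheafPushforwardContinuousComp'_hom_app_hom_app,
    Functor.sheafPushforwardContinuousComp'_inv_app_hom_app,
    Functor.sheafPushforwardContinuousIso_hom, Functor.sheafPushforwardContinuousNatTrans_app_hom,
    Functor.sheafPushforwardContinuous_map_hom_app, Functor.sheafPushforwardContinuous_obj_obj_map]
  dsimp only [Functor.whiskerRight_app, NatTrans.op_app,
    Functor.sheafPushforwardContinuous_obj_obj_map, Quiver.Hom.unop_op, Iso.symm_inv]
  simp only [Category.assoc]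
  show M.obj.map _ ≫ M.obj.map _ ≫
      M.obj.map ((MorphismProperty.Over.pullbackCongr w₃).inv.app (Opposite.unop V)).op ≫ M.obj.map _ =
    M.obj.map _ ≫
      M.obj.map ((EtCoh.bc k).map ((MorphismProperty.Over.pullbackCongr w₁).inv.app (Opposite.unop V))).op ≫
        M.obj.map _ ≫ M.obj.map _ ≫
          M.obj.map ((MorphismProperty.Over.pullbackCongr w₂).inv.app ((EtCoh.bc f).obj (Opposite.unop V))).op ≫
            M.obj.map _ ≫ M.obj.map _
  simp only [← Functor.map_comp, ← op_comp]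
  refine congrArg M.obj.map (congrArg Quiver.Hom.op ?_)
  simp only [Category.assoc]
  apply MorphismProperty.Over.Hom.ext
  refine Eq.trans ?_ ((bc_vcomp f g h e w₁ i j k w₂ w₃ (Opposite.unop V)).trans ?_)
  · rfl
  · rfl

theorem vcomp [PreservesFiniteLimits (EtCoh.pull e)] [PreservesFiniteLimits (EtCoh.pull k)]
    [PreservesFiniteLimits (EtCoh.pull (k ≫ e))] (F : EtCoh.Ab T) (q : ℕ)
    (h1 : IsIso (EtBC.bcQ g f h e w₁ q F)) (h2 : IsIso (EtBC.bcQ h i j k w₂ q ((EtCoh.pull e).obj F))) :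
    IsIso (EtBC.bcQ g (i ≫ f) j (k ≫ e) w₃ q F) := by
  rw [bcQ_eq_gen] at h1 h2 ⊢
  exact vcompGen (EtCoh.pullPushAdj e) (EtCoh.pullPushAdj f) (EtCoh.pullPushAdj k) (EtCoh.pullPushAdj i)
    (EtCoh.pullPushAdj (k ≫ e)) (EtCoh.pullPushAdj (i ≫ f)) _ _ _ (EtCoh.pushComp e k) (EtCoh.pushComp f i)
    (sqIso_vcomp f g h e w₁ i j k w₂ w₃) F q h1 h2

theorem vcomp_iff [PreservesFiniteLimits (EtCoh.pull e)] [PreservesFiniteLimits (EtCoh.pull k)]
    [PreservesFiniteLimits (EtCoh.pull (k ≫ e))] (F : EtCoh.Ab T) (q : ℕ)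
    (h2 : IsIso (EtBC.bcQ h i j k w₂ q ((EtCoh.pull e).obj F))) :
    IsIso (EtBC.bcQ g (i ≫ f) j (k ≫ e) w₃ q F) ↔ IsIso ((EtCoh.pull i).map (EtBC.bcQ g f h e w₁ q F)) := by
  rw [bcQ_eq_gen] at h2 ⊢
  exact vcompGen_iff (EtCoh.pullPushAdj e) (EtCoh.pullPushAdj f) (EtCoh.pullPushAdj k) (EtCoh.pullPushAdj i)
    (EtCoh.pullPushAdj (k ≫ e)) (EtCoh.pullPushAdj (i ≫ f)) _ _ _ (EtCoh.pushComp e k) (EtCoh.pushComp f i)
    (sqIso_vcomp f g h e w₁ i j k w₂ w₃) F q h2

end Tower

end GrothLib.BCQVcomp
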