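import Groth.Agent.Lib.EtSec.Criterion

/-!
# The degree zero base change map along an étale morphism
-/

set_option autoImplicit false

universe u

open CategoryTheory CategoryTheory.Limits AlgebraicGeometry Opposite
open GrothLib.EtSite GrothLib.EtSec

set_option backward.isDefEq.respectTransparency.types false

noncomputable section

namespace GrothLib.BCQVcomp

variable {S T X : Scheme.{u}} (g : T ⟶ S) (f : X ⟶ S) [Etale f] {F : EtDesc.Sh T}
  {Ω : Type u} [Field Ω] [IsSepClosed Ω] (ξ : Spec (CommRingCat.of Ω) ⟶ X)

theorem keyData_etale : KeyData g f F ξ := by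
  constructor
  · intro W l hl s s' U q hq m m' hm hm' hqm hqm' h
    let wh : W.left ⟶ S := W.hom
    let uh : U.left ⟶ X := U.hom
    haveI : Etale wh := W.prop
    haveI : Etale uh := U.prop
    haveI : IsOpenImmersion (pullback.diagonal wh) := inferInstance
    let c : U.left ⟶ pullback wh wh := pullback.lift m m' (hm.trans hm'.symm)
    let i : pullback c (pullback.diagonal wh) ⟶ U.left := pullback.fst c (pullback.diagonal wh)
    haveI : IsOpenImmersion i := inferInstanceAs (IsOpenImmersion (pullback.fst c (pullback.diagonal wh)))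
    have hi : i ≫ m = i ≫ m' := by
      have h1 : i ≫ c = pullback.snd c (pullback.diagonal wh) ≫ pullback.diagonal wh := pullback.condition
      have e1 := congrArg (· ≫ pullback.fst wh wh) h1
      have e2 := congrArg (· ≫ pullback.snd wh wh) h1
      simp only [Category.assoc, pullback.diagonal_fst, pullback.diagonal_snd, Category.comp_id, c,
        pullback.lift_fst, pullback.lift_snd] at e1 e2
      exact e1.trans e2.symm
    let q' : Spec (CommRingCat.of Ω) ⟶ pullback c (pullback.diagonal wh) :=
      pullback.lift q l (pullback.hom_ext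
        (by rw [Category.assoc, Category.assoc, pullback.diagonal_fst, Category.comp_id,
          show c ≫ pullback.fst wh wh = m from pullback.lift_fst _ _ _, hqm])
        (by rw [Category.assoc, Category.assoc, pullback.diagonal_snd, Category.comp_id,
          show c ≫ pullback.snd wh wh = m' from pullback.lift_snd _ _ _, hqm']))
    haveI : Etale (i ≫ uh ≫ f) := inferInstance
    let W' : S.Etale := Scheme.Etale.mk (i ≫ uh ≫ f)
    have hr : (i ≫ m) ≫ wh = i ≫ uh ≫ f := by rw [Category.assoc]; exact congrArg _ hm
    refine ⟨W', MorphismProperty.Over.homMk (i ≫ m) hr, q', ?_, ?_, ?_⟩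
    · change q' ≫ i ≫ uh ≫ f = ξ ≫ f
      rw [pullback.lift_fst_assoc, ← Category.assoc, show q ≫ uh = ξ from hq]
    · change q' ≫ i ≫ m = l
      rw [pullback.lift_fst_assoc]; exact hqm
    · change resT g (i ≫ m) hr s = resT g (i ≫ m) hr s'
      have h' := congrArg (resT g i (rfl : i ≫ uh ≫ f = i ≫ uh ≫ f)) h
      refine (resT_resT g i rfl m hm s).symm.trans (h'.trans ?_)
      exact (resT_resT g i rfl m' hm' s').trans (resT_congr g hi.symm _ hr s')
  · intro U q hq σ
    let uh : U.left ⟶ X := U.hom
    haveI : Etale uh := U.prop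
    refine ⟨Scheme.Etale.mk (uh ≫ f), q, ?_, σ, U, 𝟙 U, 𝟙 _, Category.id_comp _, q, hq, Category.comp_id _,
      Category.comp_id _, rfl⟩
    change q ≫ uh ≫ f = ξ ≫ f
    rw [← Category.assoc, show q ≫ uh = ξ from hq]

theorem isIso_baseChange0_of_etale {Y : Scheme.{u}} (h : Y ⟶ X) (e : Y ⟶ T) (hsq : IsPullback e h g f)
    (F : EtCoh.Ab T) : IsIso (EtCoh.baseChange0 g f h e hsq.w F) := by
  haveI : IsIso ((sheafCompose X.smallEtaleTopology (forget AddCommGrpCat.{u + 1})).map
      (EtCoh.baseChange0 g f h e hsq.w F)) := isIso_of_stalksSh _ fun x =>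
    ⟨_, inferInstance, inferInstance, gac x, gac_default x,
      baseChange0_stalk_bijective g f h e hsq F (keyData_etale g f (gac x))⟩
  exact isIso_of_reflects_iso (EtCoh.baseChange0 g f h e hsq.w F)
    (sheafCompose X.smallEtaleTopology (forget AddCommGrpCat.{u + 1}))

end GrothLib.BCQVcomp
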