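import Groth.Agent.Lib.BCQVcomp.Generic
import Mathlib.Algebra.Homology.ShortComplex.PreservesHomology
import Mathlib.CategoryTheory.Adjunction.Additive

/-!
# The base change morphism when the left adjoints are exact
-/

set_option autoImplicit false
set_option backward.isDefEq.respectTransparency false
set_option backward.isDefEq.respectTransparency.types false

universe v u v₁ v₂ w₁ w₂

open CategoryTheory CategoryTheory.Limits HomologicalComplex

noncomputable section

namespace GrothLib.BCQVcomp

section Exact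

variable {A : Type w₁} [Category.{v₁} A] [Abelian A] {B : Type w₂} [Category.{v₂} B] [Abelian B]
  {L : A ⥤ B} {Ψ : B ⥤ A} [Ψ.Additive] [PreservesFiniteLimits Ψ] [L.Additive] [PreservesFiniteLimits L]
  [PreservesFiniteColimits L] (adj : L ⊣ Ψ) {K : CochainComplex A ℕ} {K' : CochainComplex B ℕ} (p : ℕ)

omit [Ψ.Additive] [PreservesFiniteLimits Ψ] in
theorem isIso_cyclesComparison : IsIso (RDer.cyclesComparison L K p) := by
  haveI : Mono (L.map (K.iCycles p)) := inferInstance
  have h : RDer.cyclesComparison L K p = ((K.sc p).mapCyclesIso L).hom := by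
    rw [← cancel_mono (L.map (K.iCycles p)), RDer.cyclesComparison_i]
    exact ((K.sc p).mapCyclesIso_hom_iCycles L).symm
  rw [h]
  exact Iso.isIso_hom _

omit [Ψ.Additive] [PreservesFiniteLimits Ψ] in
theorem isIso_homologyComparison : IsIso (RDer.homologyComparison L K p) := by
  haveI := isIso_cyclesComparison (L := L) (K := K) p
  let hc := CokernelCofork.mapIsColimit _ (K.homologyIsCokernel _ p (rfl : (ComplexShape.up ℕ).prev p = _)) L
  let d : L.obj (K.homology p) ⟶ ((L.mapHomologicalComplex _).obj K).homology p :=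
    hc.desc (CokernelCofork.ofπ (inv (RDer.cyclesComparison L K p) ≫ homologyπ _ p) (by
      rw [← RDer.toCycles_cyclesComparison L K p, Category.assoc, IsIso.hom_inv_id_assoc,
        toCycles_comp_homologyπ]))
  have hd : L.map (K.homologyπ p) ≫ d = inv (RDer.cyclesComparison L K p) ≫ homologyπ _ p :=
    hc.fac _ WalkingParallelPair.one
  refine ⟨d, ?_, ?_⟩
  · rw [← cancel_epi (homologyπ ((L.mapHomologicalComplex _).obj K) p), RDer.homologyπ_homologyComparison_assoc,
      hd, IsIso.hom_inv_id_assoc, Category.comp_id]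
  · haveI : Epi (L.map (K.homologyπ p)) := inferInstance
    rw [← cancel_epi (L.map (K.homologyπ p)), reassoc_of% hd, RDer.homologyπ_homologyComparison,
      IsIso.inv_hom_id_assoc, Category.comp_id]

variable (K) in
/-- The unit as a map of complexes. -/
def unitCx : K ⟶ (Ψ.mapHomologicalComplex _).obj ((L.mapHomologicalComplex _).obj K) where
  f n := adj.unit.app (K.X n)
  comm' m n _ := (adj.unit.naturality (K.d m n)).symm

theorem transHom_unitCx : transHom adj (unitCx adj K) p ≫ RDer.homologyComparison L K p = 𝟙 _ := by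
  apply (adj.homEquiv _ _).injective
  rw [adj.homEquiv_naturality_right, adj.homEquiv_id, ← cancel_epi (K.homologyπ p),
    reassoc_of% π_transHom adj (unitCx adj K) p, ← Ψ.map_comp, RDer.homologyπ_homologyComparison]
  haveI : Mono (Ψ.map (L.map (K.iCycles p))) := inferInstance
  rw [Ψ.map_comp, ← Category.assoc (cyclesMap _ p), ← Category.assoc (cyclesMap _ p ≫ _)]
  have h : (cyclesMap (unitCx adj K) p ≫ RDer.cyclesComparison Ψ ((L.mapHomologicalComplex _).obj K) p) ≫
      Ψ.map (RDer.cyclesComparison L K p) = adj.unit.app (K.cycles p) := by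
    rw [← cancel_mono (Ψ.map (L.map (K.iCycles p))), Category.assoc, ← Ψ.map_comp, RDer.cyclesComparison_i,
      Category.assoc, RDer.cyclesComparison_i, cyclesMap_i]
    exact adj.unit.naturality (K.iCycles p)
  rw [h]
  exact (adj.unit.naturality (K.homologyπ p)).symm

theorem isIso_transHom_unitCx : IsIso (transHom adj (unitCx adj K) p) := by
  haveI := isIso_homologyComparison (L := L) (K := K) p
  exact IsIso.of_isIso_fac_right (transHom_unitCx adj p)

/-- The transposed map of complexes. -/
def transCx (Φ : K ⟶ (Ψ.mapHomologicalComplex _).obj K') : (L.mapHomologicalComplex _).obj K ⟶ K' where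
  f n := (adj.homEquiv _ _).symm (Φ.f n)
  comm' m n _ := by
    show (adj.homEquiv _ _).symm _ ≫ _ = L.map _ ≫ (adj.homEquiv _ _).symm _
    rw [← adj.homEquiv_naturality_right_symm, ← adj.homEquiv_naturality_left_symm]
    exact congrArg _ (Φ.comm m n)

theorem isIso_transHom_of_transCx (Φ : K ⟶ (Ψ.mapHomologicalComplex _).obj K')
    (h : IsIso (homologyMap (transCx adj Φ) p)) : IsIso (transHom adj Φ p) := by
  have hΦ : Φ = unitCx adj K ≫ (Ψ.mapHomologicalComplex _).map (transCx adj Φ) := by
    ext n : 1
    exact ((adj.homEquiv_unit _ _ _).symm.trans ((adj.homEquiv _ _).apply_symm_apply (Φ.f n))).symm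
  haveI := isIso_transHom_unitCx (K := K) adj p
  rw [hΦ, transHom_map]
  infer_instance

end Exact

section Square

variable {T S Y X : Type u} [Category.{v} T] [Abelian T] [Category.{v} S] [Abelian S] [Category.{v} Y] [Abelian Y]
  [Category.{v} X] [Abelian X] [HasInjectiveResolutions T] [HasInjectiveResolutions Y]
  {G : T ⥤ S} {P : Y ⥤ T} {H : Y ⥤ X} {Fr : X ⥤ S}
  [G.Additive] [P.Additive] [H.Additive] [Fr.Additive]
  [P.PreservesInjectiveObjects] [PreservesFiniteLimits Fr]
  {Lp : T ⥤ Y} {Lf : S ⥤ X} [Lp.Additive] [PreservesFiniteLimits Lp] [PreservesFiniteColimits Lp]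
  [Lf.Additive] [PreservesFiniteLimits Lf] [PreservesFiniteColimits Lf]
  (adjP : Lp ⊣ P) (adjF : Lf ⊣ Fr) (σ : P ⋙ G ≅ H ⋙ Fr) (q : ℕ) (F : T)

omit [P.PreservesInjectiveObjects] [PreservesFiniteLimits Fr] [Lp.Additive] [PreservesFiniteLimits Lp]
  [PreservesFiniteColimits Lp] [Lf.Additive] [PreservesFiniteLimits Lf] [PreservesFiniteColimits Lf]
  [HasInjectiveResolutions T] [HasInjectiveResolutions Y] [G.Additive] [P.Additive] [H.Additive] [Fr.Additive] in
theorem transpose_bc0 (N : T) {M : Y} (u : N ⟶ P.obj M) :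
    (adjF.homEquiv _ _).symm (G.map u ≫ σ.hom.app M) =
      (adjF.homEquiv _ _).symm (G.map (adjP.unit.app N) ≫ σ.hom.app (Lp.obj N)) ≫
        H.map ((adjP.homEquiv _ _).symm u) := by
  obtain ⟨v, rfl⟩ := (adjP.homEquiv N M).surjective u
  rw [Equiv.symm_apply_apply, ← adjF.homEquiv_naturality_right_symm, adjP.homEquiv_unit, Functor.map_comp,
    Category.assoc, Category.assoc]
  exact congrArg _ (congrArg (G.map _ ≫ ·) (σ.hom.naturality v))

theorem isIso_bcQGen_of_exact (hinj : ∀ I : T, Injective I → Injective (Lp.obj I))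
    (hbc : ∀ N : T, IsIso ((adjF.homEquiv _ _).symm (G.map (adjP.unit.app N) ≫ σ.hom.app (Lp.obj N)))) :
    IsIso (bcQGen adjP adjF σ q F) := by
  rw [isIso_bcQGen_iff]
  apply isIso_transHom_of_transCx
  let I := injectiveResolution F
  let J := injectiveResolution (Lp.obj F)
  let w : (Lp.mapHomologicalComplex _).obj I.cocomplex ⟶ J.cocomplex := transCx adjP (liftUnit adjP F)
  haveI := fun n => hinj _ (I.injective n)
  let ιP : (CochainComplex.single₀ Y).obj (Lp.obj F) ⟶ (Lp.mapHomologicalComplex _).obj I.cocomplex :=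
    RDer.mapAug Lp I.ι
  haveI : QuasiIso ιP := by
    haveI : QuasiIso ((Lp.mapHomologicalComplex (ComplexShape.up ℕ)).map I.ι) := inferInstance
    exact quasiIso_comp _ _
  let P' : InjectiveResolution (Lp.obj F) :=
    { cocomplex := (Lp.mapHomologicalComplex _).obj I.cocomplex
      ι := ιP
      injective := fun n => hinj _ (I.injective n) }
  let w' : J.cocomplex ⟶ P'.cocomplex := InjectiveResolution.desc (𝟙 _) P' J
  have hw : P'.ι ≫ w = (CochainComplex.single₀ Y).map (𝟙 (Lp.obj F)) ≫ J.ι := by
    refine HomologicalComplex.from_single_hom_ext ?_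
    rw [comp_f, comp_f]
    show ιP.f 0 ≫ (adjP.homEquiv _ _).symm ((liftUnit adjP F).f 0) = _
    simp only [ιP, RDer.mapAug, comp_f, Functor.mapHomologicalComplex_map_f, Category.assoc]
    rw [← adjP.homEquiv_naturality_left_symm, liftUnit_zero, adjP.homEquiv_naturality_right_symm]
    simp [HomologicalComplex.singleMapHomologicalComplex_inv_app_self, Adjunction.homEquiv_counit, J]
  let e : HomotopyEquiv P'.cocomplex J.cocomplex :=
    { hom := w
      inv := w'
      homotopyHomInvId := InjectiveResolution.descHomotopy (𝟙 _) _ _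
        (by rw [← Category.assoc, hw]; simp [w']) (by simp)
      homotopyInvHomId := InjectiveResolution.descHomotopy (𝟙 _) _ _
        (by simp [w', hw]) (by simp) }
  haveI : IsIso (homologyMap ((H.mapHomologicalComplex _).map w) q) :=
    ((H.mapHomotopyEquiv e).toHomologyIso q).isIso_hom
  let θ : ∀ N : T, Lf.obj (G.obj N) ⟶ H.obj (Lp.obj N) := fun N =>
    (adjF.homEquiv _ _).symm (G.map (adjP.unit.app N) ≫ σ.hom.app (Lp.obj N))
  have hθ : ∀ {M N : T} (a : M ⟶ N), Lf.map (G.map a) ≫ θ N = θ M ≫ H.map (Lp.map a) := fun {M N} a => by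
    rw [← adjF.homEquiv_naturality_left_symm, ← adjF.homEquiv_naturality_right_symm, Category.assoc]
    congr 1
    rw [← Category.assoc, ← G.map_comp, show a ≫ adjP.unit.app N = adjP.unit.app M ≫ P.map (Lp.map a) from
      (adjP.unit.naturality a), G.map_comp, Category.assoc]
    exact congrArg _ (σ.hom.naturality (Lp.map a))
  haveI : ∀ N, IsIso (θ N) := hbc
  let Θ : (Lf.mapHomologicalComplex _).obj ((G.mapHomologicalComplex _).obj I.cocomplex) ≅
      (H.mapHomologicalComplex _).obj ((Lp.mapHomologicalComplex _).obj I.cocomplex) :=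
    HomologicalComplex.Hom.isoOfComponents (fun n => asIso (θ (I.cocomplex.X n)))
      (fun m n _ => (hθ (I.cocomplex.d m n)).symm)
  have hfac : transCx adjF (bcCx adjP σ F) = Θ.hom ≫ (H.mapHomologicalComplex _).map w := by
    ext n : 1
    exact transpose_bc0 adjP adjF σ _ ((liftUnit adjP F).f n)
  rw [hfac, homologyMap_comp]
  haveI : IsIso (homologyMap Θ.hom q) := ((homologyFunctor X _ q).mapIso Θ).isIso_hom
  infer_instance

end Square

end GrothLib.BCQVcomp
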