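import Groth.Agent.Lib.BCQVcomp.Etale
import Groth.Agent.Lib.BCQVcomp.EtaleKey
import Groth.Agent.Lib.BCQVcomp.Exact
import Groth.Agent.Lib.EtDer.Injective

/-!
# The base change morphism along an étale morphism in every degree
-/

set_option autoImplicit false
set_option backward.isDefEq.respectTransparency false
set_option backward.isDefEq.respectTransparency.types false

universe u

open CategoryTheory CategoryTheory.Limits AlgebraicGeometry

noncomputable section

namespace GrothLib.BCQVcomp

variable {X S Y T : Scheme.{u}}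

theorem pull_additive (f : X ⟶ S) : (EtCoh.pull f).Additive :=
  (EtCoh.pullPushAdj f).left_adjoint_additive

theorem pull_preservesFiniteColimits (f : X ⟶ S) : PreservesFiniteColimits (EtCoh.pull f) :=
  haveI : (EtCoh.pull f).IsLeftAdjoint := ⟨_, ⟨EtCoh.pullPushAdj f⟩⟩
  ⟨fun _ _ _ => inferInstance⟩

theorem isIso_bcQ_of_etale (g : T ⟶ S) (f : X ⟶ S) [Etale f] (h : Y ⟶ X) (e : Y ⟶ T) (c : IsPullback e h g f)
    [PreservesFiniteLimits (EtCoh.pull e)] (F : EtCoh.Ab T) (q : ℕ) : IsIso (EtBC.bcQ g f h e c.w q F) := by
  haveI : Etale e := MorphismProperty.of_isPullback c.flip (inferInstance : Etale f)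
  haveI := pull_additive e
  haveI := pull_additive f
  haveI := pull_preservesFiniteColimits e
  haveI := pull_preservesFiniteColimits f
  haveI := GrothLib.EtSite.pull_preservesFiniteLimits f
  rw [bcQ_eq_gen]
  exact isIso_bcQGen_of_exact _ _ _ _ _ (fun I _ => GrothLib.EtDer.injective_pull_etale e I)
    (fun N => isIso_baseChange0_of_etale g f h e c N)

end GrothLib.BCQVcomp
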