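import Groth.Agent.Lib.BCQVcomp.Etale
import Groth.Agent.Lib.BCQVcomp.Exact

/-!
# Composition of a base change square with a square whose horizontal direct images are exact
-/

set_option autoImplicit false
set_option backward.isDefEq.respectTransparency false
set_option backward.isDefEq.respectTransparency.types false

universe v u

open CategoryTheory CategoryTheory.Limits HomologicalComplex

noncomputable section

namespace GrothLib.BCQVcomp

section Push

variable {A A' B B' : Type u} [Category.{v} A] [Abelian A] [Category.{v} A'] [Abelian A']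
  [Category.{v} B] [Abelian B] [Category.{v} B'] [Abelian B']
  {Q₁ : A ⥤ A'} {Q₂ : B ⥤ B'} {F₁ : B ⥤ A} {F₂ : B' ⥤ A'}
  [Q₁.Additive] [Q₂.Additive] [F₁.Additive] [F₂.Additive]
  [PreservesFiniteLimits Q₁] [PreservesFiniteLimits Q₂] [PreservesFiniteLimits F₁] [PreservesFiniteLimits F₂]
  {L₁ : A ⥤ B} {L₂ : A' ⥤ B'} (adj₁ : L₁ ⊣ F₁) (adj₂ : L₂ ⊣ F₂) (σ : F₁ ⋙ Q₁ ≅ Q₂ ⋙ F₂)
  {K : CochainComplex A ℕ} {K' : CochainComplex B ℕ} (Φ : K ⟶ (F₁.mapHomologicalComplex _).obj K') (p : ℕ)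

/-- The degree zero base change morphism of a square. -/
abbrev bcGen0 (N : A) : L₂.obj (Q₁.obj N) ⟶ Q₂.obj (L₁.obj N) :=
  (adj₂.homEquiv _ _).symm (Q₁.map (adj₁.unit.app N) ≫ σ.hom.app (L₁.obj N))

omit [F₁.Additive] [F₂.Additive] [Q₁.Additive] [Q₂.Additive] [PreservesFiniteLimits Q₁]
  [PreservesFiniteLimits Q₂] [PreservesFiniteLimits F₁] [PreservesFiniteLimits F₂] in
theorem transpose_bcGen0 {N : A} {M : B} (t : L₁.obj N ⟶ M) :
    adj₂.homEquiv _ _ (bcGen0 adj₁ adj₂ σ N ≫ Q₂.map t) =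
      Q₁.map (adj₁.homEquiv _ _ t) ≫ σ.hom.app M := by
  rw [Adjunction.homEquiv_naturality_right, Equiv.apply_symm_apply, adj₁.homEquiv_unit, Functor.map_comp,
    Category.assoc, Category.assoc]
  exact congrArg (Q₁.map _ ≫ ·) (σ.hom.naturality t).symm

theorem cycles_sqCx :
    cyclesMap (sqCx σ Φ) p ≫ RDer.cyclesComparison F₂ ((Q₂.mapHomologicalComplex _).obj K') p ≫
        F₂.map (RDer.cyclesComparison Q₂ K' p) =
      RDer.cyclesComparison Q₁ K p ≫ Q₁.map (cyclesMap Φ p ≫ RDer.cyclesComparison F₁ K' p) ≫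
        σ.hom.app (K'.cycles p) := by
  have : Mono (F₂.map (Q₂.map (K'.iCycles p))) := inferInstance
  rw [← cancel_mono (F₂.map (Q₂.map (K'.iCycles p)))]
  simp only [Category.assoc]
  rw [← F₂.map_comp, RDer.cyclesComparison_i, RDer.cyclesComparison_i, cyclesMap_i]
  rw [show σ.hom.app (K'.cycles p) ≫ F₂.map (Q₂.map (K'.iCycles p)) =
    Q₁.map (F₁.map (K'.iCycles p)) ≫ σ.hom.app (K'.X p) from (σ.hom.naturality (K'.iCycles p)).symm]
  rw [← Q₁.map_comp_assoc, Category.assoc, RDer.cyclesComparison_i, cyclesMap_i, Q₁.map_comp,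
    Category.assoc, RDer.cyclesComparison_i_assoc]
  rfl

theorem transHom_sqCx :
    transHom adj₂ (sqCx σ Φ) p ≫ RDer.homologyComparison Q₂ K' p =
      L₂.map (RDer.homologyComparison Q₁ K p) ≫ bcGen0 adj₁ adj₂ σ (K.homology p) ≫
        Q₂.map (transHom adj₁ Φ p) := by
  apply (adj₂.homEquiv _ _).injective
  rw [Adjunction.homEquiv_naturality_left, transpose_bcGen0, Adjunction.homEquiv_naturality_right,
    ← cancel_epi (homologyπ ((Q₁.mapHomologicalComplex _).obj K) p), reassoc_of% π_transHom adj₂ (sqCx σ Φ) p,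
    RDer.homologyπ_homologyComparison_assoc, ← F₂.map_comp, RDer.homologyπ_homologyComparison, F₂.map_comp,
    ← Q₁.map_comp_assoc, π_transHom adj₁ Φ p, reassoc_of% cycles_sqCx σ Φ p]
  simp only [Functor.map_comp, Category.assoc]
  congr 3
  exact (σ.hom.naturality (K'.homologyπ p)).symm

theorem isIso_transHom_sqCx_iff [PreservesFiniteColimits Q₁] [PreservesFiniteColimits Q₂]
    (hbc : IsIso (bcGen0 adj₁ adj₂ σ (K.homology p))) :
    IsIso (transHom adj₂ (sqCx σ Φ) p) ↔ IsIso (Q₂.map (transHom adj₁ Φ p)) := by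
  haveI := isIso_homologyComparison (L := Q₁) (K := K) p
  haveI := isIso_homologyComparison (L := Q₂) (K := K') p
  rw [← isIso_comp_right_iff (transHom adj₂ (sqCx σ Φ) p) (RDer.homologyComparison Q₂ K' p),
    transHom_sqCx adj₁ adj₂ σ Φ p, isIso_comp_left_iff, isIso_comp_left_iff]

end Push

section Pre

variable {A B : Type u} [Category.{v} A] [Abelian A] [Category.{v} B] [Abelian B]
  {L : A ⥤ B} {Ψ : B ⥤ A} [Ψ.Additive] [PreservesFiniteLimits Ψ] (adj : L ⊣ Ψ)
  {K₀ K : CochainComplex A ℕ} {K' : CochainComplex B ℕ} (a : K₀ ⟶ K)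
  (Φ : K ⟶ (Ψ.mapHomologicalComplex _).obj K') (p : ℕ)

theorem transHom_pre : transHom adj (a ≫ Φ) p = L.map (homologyMap a p) ≫ transHom adj Φ p := by
  rw [transHom, transHom, homologyMap_comp, Category.assoc, Adjunction.homEquiv_naturality_left_symm]

end Pre

section Hor

variable {T Y A A' B B' : Type u} [Category.{v} T] [Abelian T] [Category.{v} Y] [Abelian Y]
  [Category.{v} A] [Abelian A] [Category.{v} A'] [Abelian A']
  [Category.{v} B] [Abelian B] [Category.{v} B'] [Abelian B']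
  [HasInjectiveResolutions T] [HasInjectiveResolutions Y]
  {G₁ : T ⥤ A} {G₃ : T ⥤ A'} {H₁ : Y ⥤ B} {H₃ : Y ⥤ B'} {P : Y ⥤ T}
  {Q₁ : A ⥤ A'} {Q₂ : B ⥤ B'} {F₁ : B ⥤ A} {F₂ : B' ⥤ A'}
  [G₁.Additive] [G₃.Additive] [H₁.Additive] [H₃.Additive] [P.Additive] [P.PreservesInjectiveObjects]
  [Q₁.Additive] [Q₂.Additive] [F₁.Additive] [F₂.Additive]
  [PreservesFiniteLimits Q₁] [PreservesFiniteLimits Q₂] [PreservesFiniteLimits F₁] [PreservesFiniteLimits F₂]
  [PreservesFiniteColimits Q₁] [PreservesFiniteColimits Q₂]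
  {Lp : T ⥤ Y} {L₁ : A ⥤ B} {L₂ : A' ⥤ B'} (adjP : Lp ⊣ P) (adj₁ : L₁ ⊣ F₁) (adj₂ : L₂ ⊣ F₂)
  (σ₁ : P ⋙ G₁ ≅ H₁ ⋙ F₁) (σ : F₁ ⋙ Q₁ ≅ Q₂ ⋙ F₂) (σ₃ : P ⋙ G₃ ≅ H₃ ⋙ F₂)
  (γG : G₁ ⋙ Q₁ ≅ G₃) (γH : H₁ ⋙ Q₂ ≅ H₃)
  (hcoh : ∀ M : Y, γG.hom.app (P.obj M) ≫ σ₃.hom.app M =
    Q₁.map (σ₁.hom.app M) ≫ σ.hom.app (H₁.obj M) ≫ F₂.map (γH.hom.app M))

include hcoh in
/-- The base change morphism of a composite with an exact square is the exact direct image of the base
change morphism, up to isomorphism. -/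
theorem isIso_bcQGen_hor_iff (hbc : ∀ N : A, IsIso (bcGen0 adj₁ adj₂ σ N)) (F : T) (q : ℕ) :
    IsIso (bcQGen adjP adj₂ σ₃ q F) ↔ IsIso (Q₂.map (bcQGen adjP adj₁ σ₁ q F)) := by
  rw [isIso_bcQGen_iff, bcQGen_eq adjP adj₁, Functor.map_comp, Functor.map_comp, isIso_comp_left_iff,
    isIso_comp_right_iff]
  let I := injectiveResolution F
  let J := injectiveResolution (Lp.obj F)
  let a := (NatTrans.mapHomologicalComplex γG.hom (ComplexShape.up ℕ)).app I.cocomplex
  let b := (NatTrans.mapHomologicalComplex γH.hom (ComplexShape.up ℕ)).app J.cocomplex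
  haveI : IsIso a := ((NatIso.mapHomologicalComplex γG (ComplexShape.up ℕ)).app I.cocomplex).isIso_hom
  haveI : IsIso b := ((NatIso.mapHomologicalComplex γH (ComplexShape.up ℕ)).app J.cocomplex).isIso_hom
  have key : (a ≫ bcCx adjP σ₃ F) =
      sqCx σ (bcCx adjP σ₁ F) ≫ (F₂.mapHomologicalComplex _).map b := by
    ext n : 1
    show γG.hom.app _ ≫ G₃.map ((liftUnit adjP F).f n) ≫ σ₃.hom.app _ =
      (Q₁.map (G₁.map ((liftUnit adjP F).f n) ≫ σ₁.hom.app _) ≫ σ.hom.app _) ≫ F₂.map (γH.hom.app _)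
    erw [← γG.hom.naturality_assoc ((liftUnit adjP F).f n), hcoh]
    simp only [Functor.map_comp, Category.assoc]
    rfl
  have key' := (transHom_pre adj₂ a (bcCx adjP σ₃ F) q).symm.trans
    ((congrArg (fun Φ => transHom adj₂ Φ q) key).trans
      (transHom_map adj₂ (sqCx σ (bcCx adjP σ₁ F)) q b))
  haveI : IsIso (homologyMap a q) := ((homologyFunctor A' _ q).mapIso (asIso a)).isIso_hom
  haveI : IsIso (homologyMap b q) := ((homologyFunctor B' _ q).mapIso (asIso b)).isIso_hom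
  rw [← isIso_comp_left_iff (L₂.map (homologyMap a q)) (transHom adj₂ (bcCx adjP σ₃ F) q), key',
    isIso_comp_right_iff]
  exact isIso_transHom_sqCx_iff adj₁ adj₂ σ _ q (hbc _)

end Hor

section Scheme

open AlgebraicGeometry

variable {X S X' S' : Scheme.{u}}

theorem pushCongr_inv {f f' : X ⟶ S} (h : f = f') :
    (EtCoh.pushCongr h).inv = (EtCoh.pushCongr h.symm).hom := by
  subst h
  rw [← cancel_mono (EtCoh.pushCongr (rfl : f = f)).hom, Iso.inv_hom_id]
  apply NatTrans.ext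
  funext F
  apply ObjectProperty.hom_ext
  apply NatTrans.ext
  funext U
  have hid : (MorphismProperty.Over.pullbackCongr (P := EtCoh.etaleMP) (Q := ⊤) (rfl : f = f)).inv.app U.unop =
      𝟙 _ := by
    apply MorphismProperty.Over.Hom.ext
    apply pullback.hom_ext <;> simp [MorphismProperty.Over.pullbackCongr] <;> exact Category.id_comp _
  simp only [EtCoh.pushCongr, Functor.sheafPushforwardContinuousIso_hom]
  refine ((F.obj.map_id _).symm.trans ?_)
  show _ = F.obj.map ((MorphismProperty.Over.pullbackCongr (P := EtCoh.etaleMP) (Q := ⊤) (rfl : f = f)).inv.app U.unop).op ≫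
    F.obj.map ((MorphismProperty.Over.pullbackCongr (P := EtCoh.etaleMP) (Q := ⊤) (rfl : f = f)).inv.app U.unop).op
  refine Eq.trans ?_ (congrArg (fun k => F.obj.map k.op ≫ F.obj.map k.op) hid).symm
  refine (F.obj.map_id _).trans ?_
  exact ((congrArg (fun k => k ≫ k) (F.obj.map_id _)).trans (Category.id_comp _)).symm

theorem sqIso_inv (f : X ⟶ S) (g : S' ⟶ S) (f' : X' ⟶ S') (g' : X' ⟶ X) (w : g' ≫ f = f' ≫ g) :
    (sqIso f g f' g' w).inv = (sqIso g f g' f' w.symm).hom := by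
  simp [sqIso, pushCongr_inv]

end Scheme

end GrothLib.BCQVcomp
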