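import Groth.Prelude.Def_RDer
import Mathlib.CategoryTheory.Adjunction.Unique
import Mathlib.CategoryTheory.Abelian.RightDerived
import Mathlib.Algebra.Homology.Homotopy

/-!
# Transposed comparison maps on homology and their composition
-/

set_option autoImplicit false
set_option backward.isDefEq.respectTransparency false
set_option backward.isDefEq.respectTransparency.types false

universe v₁ v₂ v₃ w₁ w₂ w₃

open CategoryTheory CategoryTheory.Limits HomologicalComplex

noncomputable section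

namespace GrothLib.BCQVcomp

variable {A : Type w₁} [Category.{v₁} A] [Abelian A] {B : Type w₂} [Category.{v₂} B] [Abelian B]
  {C : Type w₃} [Category.{v₃} C] [Abelian C]

section Homotopy

/-- Two maps from an injective resolution into a complex of injectives agreeing on the augmentation
are homotopic. -/
theorem nonempty_homotopy {Y : A} (I : InjectiveResolution Y) (L : CochainComplex A ℕ) [∀ n, Injective (L.X n)]
    (a b : I.cocomplex ⟶ L) (h : I.ι.f 0 ≫ a.f 0 = I.ι.f 0 ≫ b.f 0) : Nonempty (Homotopy a b) := by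
  let f := a - b
  have h0 : I.ι.f 0 ≫ f.f 0 = 0 := by simp [f, h]
  let z : I.cocomplex.X 1 ⟶ L.X 0 := I.exact₀.descToInjective (f.f 0) h0
  have hz : I.cocomplex.d 0 1 ≫ z = f.f 0 := I.exact₀.comp_descToInjective _ _
  have h1 : I.cocomplex.d 0 1 ≫ (f.f 1 - z ≫ L.d 0 1) = 0 := by
    rw [Preadditive.comp_sub, reassoc_of% hz, f.comm, sub_self]
  let o : I.cocomplex.X 2 ⟶ L.X 1 := (I.exact_succ 0).descToInjective (f.f 1 - z ≫ L.d 0 1) h1
  have ho : I.cocomplex.d 1 2 ≫ o = f.f 1 - z ≫ L.d 0 1 := (I.exact_succ 0).comp_descToInjective _ _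
  refine ⟨Homotopy.equivSubZero.invFun (Homotopy.mkCoinductive f z hz.symm o
    (by rw [ho]; abel) fun n ⟨g, g', w⟩ =>
      ⟨(I.exact_succ (n + 1)).descToInjective (f.f (n + 2) - g' ≫ L.d _ _) (by
        dsimp
        rw [Preadditive.comp_sub, ← f.comm, w, Preadditive.add_comp,
          Category.assoc, Category.assoc, HomologicalComplex.d_comp_d, comp_zero]
        abel), ?_⟩)⟩
  rw [show I.cocomplex.d (n + 2) (n + 3) ≫ _ = _ from (I.exact_succ (n + 1)).comp_descToInjective _ _]
  abel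

end Homotopy

section Transpose

variable {L : A ⥤ B} {Ψ : B ⥤ A} [Ψ.Additive] [PreservesFiniteLimits Ψ] (adj : L ⊣ Ψ)
  {K : CochainComplex A ℕ} {K' : CochainComplex B ℕ} (Φ : K ⟶ (Ψ.mapHomologicalComplex _).obj K') (p : ℕ)

/-- A map of complexes into `Ψ K'` induces a map `L (H^p K) ⟶ H^p K'`. -/
def transHom : L.obj (K.homology p) ⟶ K'.homology p :=
  (adj.homEquiv _ _).symm (homologyMap Φ p ≫ RDer.homologyComparison Ψ K' p)

theorem π_transHom : K.homologyπ p ≫ adj.homEquiv _ _ (transHom adj Φ p) =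
    cyclesMap Φ p ≫ RDer.cyclesComparison Ψ K' p ≫ Ψ.map (K'.homologyπ p) := by
  rw [transHom, Equiv.apply_symm_apply, homologyπ_naturality_assoc, RDer.homologyπ_homologyComparison]

theorem transHom_ext {t : L.obj (K.homology p) ⟶ K'.homology p}
    (h : K.homologyπ p ≫ adj.homEquiv _ _ t =
      cyclesMap Φ p ≫ RDer.cyclesComparison Ψ K' p ≫ Ψ.map (K'.homologyπ p)) :
    transHom adj Φ p = t := by
  apply (adj.homEquiv _ _).injective
  rw [← cancel_epi (K.homologyπ p), π_transHom, h]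

theorem transHom_congr {Φ' : K ⟶ (Ψ.mapHomologicalComplex _).obj K'} (h : Homotopy Φ Φ') :
    transHom adj Φ p = transHom adj Φ' p := by
  rw [transHom, transHom, h.homologyMap_eq]

theorem cyclesComparison_naturality {K'' : CochainComplex B ℕ} (ψ : K' ⟶ K'') :
    cyclesMap ((Ψ.mapHomologicalComplex _).map ψ) p ≫ RDer.cyclesComparison Ψ K'' p =
      RDer.cyclesComparison Ψ K' p ≫ Ψ.map (cyclesMap ψ p) := by
  have : Mono (Ψ.map (K''.iCycles p)) := inferInstance
  rw [← cancel_mono (Ψ.map (K''.iCycles p)), Category.assoc, Category.assoc, RDer.cyclesComparison_i,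
    cyclesMap_i, ← Ψ.map_comp, cyclesMap_i, Ψ.map_comp, RDer.cyclesComparison_i_assoc]
  rfl

theorem transHom_map {K'' : CochainComplex B ℕ} (ψ : K' ⟶ K'') :
    transHom adj (Φ ≫ (Ψ.mapHomologicalComplex _).map ψ) p = transHom adj Φ p ≫ homologyMap ψ p := by
  apply transHom_ext
  rw [Adjunction.homEquiv_naturality_right, reassoc_of% π_transHom adj Φ p, cyclesMap_comp, Category.assoc,
    ← Category.assoc (cyclesMap ((Ψ.mapHomologicalComplex _).map ψ) p), cyclesComparison_naturality,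
    Category.assoc, ← Ψ.map_comp, ← Ψ.map_comp, homologyπ_naturality]

end Transpose

section Comp

variable {L₁ : A ⥤ B} {Ψ₁ : B ⥤ A} [Ψ₁.Additive] [PreservesFiniteLimits Ψ₁] (adj₁ : L₁ ⊣ Ψ₁)
  {L₂ : B ⥤ C} {Ψ₂ : C ⥤ B} [Ψ₂.Additive] [PreservesFiniteLimits Ψ₂] (adj₂ : L₂ ⊣ Ψ₂)
  {K : CochainComplex A ℕ} {K' : CochainComplex B ℕ} {K'' : CochainComplex C ℕ}
  (Φ : K ⟶ (Ψ₁.mapHomologicalComplex _).obj K') (Φ' : K' ⟶ (Ψ₂.mapHomologicalComplex _).obj K'') (p : ℕ)
  [PreservesFiniteLimits (Ψ₂ ⋙ Ψ₁)]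

theorem cyclesComparison_comp :
    RDer.cyclesComparison (Ψ₂ ⋙ Ψ₁) K'' p =
      RDer.cyclesComparison Ψ₁ ((Ψ₂.mapHomologicalComplex _).obj K'') p ≫
        Ψ₁.map (RDer.cyclesComparison Ψ₂ K'' p) := by
  have : Mono ((Ψ₂ ⋙ Ψ₁).map (K''.iCycles p)) := inferInstance
  rw [← cancel_mono ((Ψ₂ ⋙ Ψ₁).map (K''.iCycles p)), RDer.cyclesComparison_i, Category.assoc,
    Functor.comp_map, ← Ψ₁.map_comp, RDer.cyclesComparison_i, RDer.cyclesComparison_i]
  rfl

theorem transHom_comp :
    transHom (adj₁.comp adj₂) (Φ ≫ (Ψ₁.mapHomologicalComplex _).map Φ' :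
        K ⟶ ((Ψ₂ ⋙ Ψ₁).mapHomologicalComplex _).obj K'') p =
      L₂.map (transHom adj₁ Φ p) ≫ transHom adj₂ Φ' p := by
  apply transHom_ext
  rw [Adjunction.comp_homEquiv]
  show homologyπ K p ≫ adj₁.homEquiv _ _ (adj₂.homEquiv _ _ (L₂.map (transHom adj₁ Φ p) ≫ transHom adj₂ Φ' p)) = _
  rw [Adjunction.homEquiv_naturality_left,
    Adjunction.homEquiv_naturality_right, reassoc_of% π_transHom adj₁ Φ p, ← Ψ₁.map_comp, π_transHom adj₂ Φ' p,
    cyclesComparison_comp, cyclesMap_comp]
  simp only [Category.assoc, Functor.map_comp, Functor.comp_map]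
  rw [← Category.assoc (RDer.cyclesComparison Ψ₁ K' p), ← cyclesComparison_naturality]
  simp only [Category.assoc]

end Comp

section Change

variable {L : A ⥤ B} {Ψ : B ⥤ A} [Ψ.Additive] [PreservesFiniteLimits Ψ] (adj : L ⊣ Ψ)
  {L' : A ⥤ B} {Ψ' : B ⥤ A} [Ψ'.Additive] [PreservesFiniteLimits Ψ'] (adj' : L' ⊣ Ψ') (α : Ψ ≅ Ψ')
  {K : CochainComplex A ℕ} {K' : CochainComplex B ℕ} (Φ : K ⟶ (Ψ.mapHomologicalComplex _).obj K') (p : ℕ)

theorem transHom_change :
    transHom adj' (Φ ≫ (NatTrans.mapHomologicalComplex α.hom _).app K') p =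
      (Adjunction.leftAdjointUniq adj' (adj.ofNatIsoRight α)).hom.app (K.homology p) ≫ transHom adj Φ p := by
  apply transHom_ext
  rw [Adjunction.homEquiv_naturality_right, Adjunction.homEquiv_leftAdjointUniq_hom_app]
  have h1 : (adj.ofNatIsoRight α).unit.app (K.homology p) ≫ Ψ'.map (transHom adj Φ p) =
      adj.homEquiv _ _ (transHom adj Φ p) ≫ α.hom.app _ := by
    rw [Adjunction.homEquiv_unit, Category.assoc, α.hom.naturality]
    simp [Adjunction.ofNatIsoRight, Adjunction.homEquiv_unit]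
  rw [h1, reassoc_of% π_transHom adj Φ p, α.hom.naturality, cyclesMap_comp]
  simp only [Category.assoc]
  congr 1
  have : Mono (Ψ'.map (K'.iCycles p)) := inferInstance
  rw [← Category.assoc, ← Category.assoc]
  congr 1
  rw [← cancel_mono (Ψ'.map (K'.iCycles p)), Category.assoc, Category.assoc, RDer.cyclesComparison_i,
    cyclesMap_i, ← α.hom.naturality, RDer.cyclesComparison_i_assoc]
  rfl

end Change

section Square

variable {T S Y X : Type*} [Category T] [Abelian T] [Category S] [Abelian S] [Category Y] [Abelian Y]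
  [Category X] [Abelian X] {G : T ⥤ S} {P : Y ⥤ T} {H : Y ⥤ X} {Fr : X ⥤ S}
  [G.Additive] [P.Additive] [H.Additive] [Fr.Additive] (σ : P ⋙ G ≅ H ⋙ Fr)

/-- The map of complexes attached to a square and a lift of the unit. -/
def sqCx {I : CochainComplex T ℕ} {J : CochainComplex Y ℕ} (u : I ⟶ (P.mapHomologicalComplex _).obj J) :
    (G.mapHomologicalComplex _).obj I ⟶
      (Fr.mapHomologicalComplex _).obj ((H.mapHomologicalComplex _).obj J) :=
  (G.mapHomologicalComplex _).map u ≫ (NatTrans.mapHomologicalComplex σ.hom _).app J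

end Square

/-- The homology of a functor applied to a map of resolutions over an isomorphism is an isomorphism. -/
theorem isIso_homologyMap_desc {Y Z : A} (I : InjectiveResolution Y) (J : InjectiveResolution Z) (φ : Y ≅ Z)
    (Ψ : A ⥤ B) [Ψ.Additive] (p : ℕ) :
    IsIso (homologyMap ((Ψ.mapHomologicalComplex _).map (InjectiveResolution.desc φ.hom J I)) p) := by
  let e : HomotopyEquiv I.cocomplex J.cocomplex :=
    { hom := InjectiveResolution.desc φ.hom J I
      inv := InjectiveResolution.desc φ.inv I J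
      homotopyHomInvId := InjectiveResolution.descHomotopy (𝟙 Y) _ _ (by simp) (by simp)
      homotopyInvHomId := InjectiveResolution.descHomotopy (𝟙 Z) _ _ (by simp) (by simp) }
  exact ((Ψ.mapHomotopyEquiv e).toHomologyIso p).isIso_hom

end GrothLib.BCQVcomp
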